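import Mathlib
import Groth.Prelude.Def_KZero

/-!
# Transport of `K₀` of triangulated subcategories along a fully faithful triangulated functor (helper5)
-/

set_option autoImplicit false
universe v₁ v₂ u₁ u₂

open CategoryTheory CategoryTheory.Limits CategoryTheory.Pretriangulated KZero ZeroObject

namespace Groth.Agent.Lib.Helper5.K0Tr

section Basic

variable {D : Type u₁} [Category.{v₁} D] [Preadditive D] [HasZeroObject D] [HasShift D ℤ]
  [∀ n : ℤ, (shiftFunctor D n).Additive] [Pretriangulated D] (P : ObjectProperty D)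

lemma clTr_of {X : D} (h : P X) :
    clTr P X = QuotientAddGroup.mk (FreeAbelianGroup.of ⟨X, h⟩) := dif_pos h

lemma clTr_tri (T : Triangle D) (hT : T ∈ distTriang D) (h₁ : P T.obj₁) (h₂ : P T.obj₂)
    (h₃ : P T.obj₃) : clTr P T.obj₂ = clTr P T.obj₁ + clTr P T.obj₃ := by
  rw [clTr_of P h₁, clTr_of P h₂, clTr_of P h₃]
  have h : (QuotientAddGroup.mk (FreeAbelianGroup.of ⟨T.obj₂, h₂⟩ -
      FreeAbelianGroup.of ⟨T.obj₁, h₁⟩ - FreeAbelianGroup.of ⟨T.obj₃, h₃⟩) : K0tr P) = 0 := by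
    rw [QuotientAddGroup.eq_zero_iff]
    exact AddSubgroup.subset_closure ⟨T, h₁, h₂, h₃, hT, rfl⟩
  rw [QuotientAddGroup.mk_sub, QuotientAddGroup.mk_sub, sub_sub, sub_eq_zero] at h
  exact h

variable [P.IsClosedUnderIsomorphisms] [P.ContainsZero]

lemma clTr_zeroObj : clTr P (0 : D) = 0 := by
  have h0 : P (0 : D) := P.prop_zero
  have := clTr_tri P (contractibleTriangle (0 : D)) (contractible_distinguished (0 : D)) h0 h0 h0
  exact left_eq_add.1 this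

lemma clTr_iso {X Y : D} (e : X ≅ Y) (hX : P X) : clTr P Y = clTr P X := by
  have hY : P Y := P.prop_of_iso e hX
  have h0 : P (0 : D) := P.prop_zero
  have hT : Triangle.mk e.hom (0 : Y ⟶ (0 : D)) 0 ∈ distTriang D :=
    isomorphic_distinguished _ (contractible_distinguished X) _
      (Triangle.isoMk _ _ (Iso.refl X) e.symm (Iso.refl _)
        (by change e.hom ≫ e.inv = 𝟙 X ≫ 𝟙 X; rw [Iso.hom_inv_id, Category.comp_id])
        ((isZero_zero D).eq_of_tgt _ _)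
        ((isZero_zero D).eq_of_src _ _))
  have := clTr_tri P _ hT hX hY h0
  change clTr P Y = clTr P X + clTr P (0 : D) at this
  rw [this, clTr_zeroObj, add_zero]

end Basic

section Transport

variable {D₁ : Type u₁} [Category.{v₁} D₁] [Preadditive D₁] [HasZeroObject D₁] [HasShift D₁ ℤ]
  [∀ n : ℤ, (shiftFunctor D₁ n).Additive] [Pretriangulated D₁]
  {D₂ : Type u₂} [Category.{v₂} D₂] [Preadditive D₂] [HasZeroObject D₂] [HasShift D₂ ℤ]
  [∀ n : ℤ, (shiftFunctor D₂ n).Additive] [Pretriangulated D₂]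
  (F : D₁ ⥤ D₂) [F.CommShift ℤ] [F.IsTriangulated] [F.Full] [F.Faithful]
  (P₁ : ObjectProperty D₁) (P₂ : ObjectProperty D₂)
  [P₂.IsClosedUnderIsomorphisms] [P₂.ContainsZero]
  (h12 : ∀ K, P₁ K ↔ P₂ (F.obj K)) (hess : ∀ L, P₂ L → ∃ K, Nonempty (F.obj K ≅ L))

include h12 in
lemma isClosedUnderIsomorphisms_left : P₁.IsClosedUnderIsomorphisms :=
  ⟨fun {K K'} e hK => (h12 K').2 (P₂.prop_of_iso (F.mapIso e) ((h12 K).1 hK))⟩

include h12 in
lemma containsZero_left : P₁.ContainsZero :=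
  ⟨⟨0, isZero_zero _, (h12 0).2 (P₂.prop_of_isZero (F.map_isZero (isZero_zero _)))⟩⟩

/-- the forward map on free abelian groups -/
noncomputable def fwd₀ : FreeAbelianGroup (Subtype P₁) →+ K0tr P₂ :=
  FreeAbelianGroup.lift (fun K => clTr P₂ (F.obj K.1))

lemma fwd₀_of (K : Subtype P₁) :
    fwd₀ F P₁ P₂ (FreeAbelianGroup.of K) = clTr P₂ (F.obj K.1) :=
  FreeAbelianGroup.lift_apply_of _ _

include h12 in
lemma relTr_le_ker_fwd₀ : relTr P₁ ≤ (fwd₀ F P₁ P₂).ker := by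
  refine (AddSubgroup.closure_le _).2 ?_
  rintro _ ⟨T, h₁, h₂, h₃, hT, rfl⟩
  rw [SetLike.mem_coe, AddMonoidHom.mem_ker, map_sub, map_sub, fwd₀_of, fwd₀_of, fwd₀_of]
  have := clTr_tri P₂ (F.mapTriangle.obj T) (F.map_distinguished T hT)
    ((h12 _).1 h₁) ((h12 _).1 h₂) ((h12 _).1 h₃)
  change clTr P₂ (F.obj T.obj₂) = clTr P₂ (F.obj T.obj₁) + clTr P₂ (F.obj T.obj₃) at this
  rw [this]
  abel

/-- the forward map -/
noncomputable def fwd : K0tr P₁ →+ K0tr P₂ :=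
  QuotientAddGroup.lift _ (fwd₀ F P₁ P₂) (relTr_le_ker_fwd₀ F P₁ P₂ h12)

include h12 in
lemma fwd_clTr (K : D₁) (hK : P₁ K) : fwd F P₁ P₂ h12 (clTr P₁ K) = clTr P₂ (F.obj K) := by
  rw [clTr_of P₁ hK]
  exact fwd₀_of F P₁ P₂ ⟨K, hK⟩

/-- a chosen preimage -/
noncomputable def pre (L : Subtype P₂) : D₁ := (hess L.1 L.2).choose

/-- the defining isomorphism of the chosen preimage -/
noncomputable def preIso (L : Subtype P₂) : F.obj (pre F P₂ hess L) ≅ L.1 :=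
  (hess L.1 L.2).choose_spec.some

include h12 in
lemma pre_mem (L : Subtype P₂) : P₁ (pre F P₂ hess L) :=
  (h12 _).2 (P₂.prop_of_iso (preIso F P₂ hess L).symm L.2)

/-- the backward map on free abelian groups -/
noncomputable def bwd₀ : FreeAbelianGroup (Subtype P₂) →+ K0tr P₁ :=
  FreeAbelianGroup.lift (fun L => clTr P₁ (pre F P₂ hess L))

lemma bwd₀_of (L : Subtype P₂) :
    bwd₀ F P₁ P₂ hess (FreeAbelianGroup.of L) = clTr P₁ (pre F P₂ hess L) :=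
  FreeAbelianGroup.lift_apply_of _ _

include h12 in
lemma relTr_le_ker_bwd₀ : relTr P₂ ≤ (bwd₀ F P₁ P₂ hess).ker := by
  haveI := isClosedUnderIsomorphisms_left F P₁ P₂ h12
  haveI := containsZero_left F P₁ P₂ h12
  refine (AddSubgroup.closure_le _).2 ?_
  rintro _ ⟨T, h₁, h₂, h₃, hT, rfl⟩
  rw [SetLike.mem_coe, AddMonoidHom.mem_ker, map_sub, map_sub, bwd₀_of, bwd₀_of, bwd₀_of]
  set K₁ := pre F P₂ hess ⟨T.obj₁, h₁⟩
  set K₂ := pre F P₂ hess ⟨T.obj₂, h₂⟩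
  set K₃ := pre F P₂ hess ⟨T.obj₃, h₃⟩
  let e₁ : F.obj K₁ ≅ T.obj₁ := preIso F P₂ hess ⟨T.obj₁, h₁⟩
  let e₂ : F.obj K₂ ≅ T.obj₂ := preIso F P₂ hess ⟨T.obj₂, h₂⟩
  let e₃ : F.obj K₃ ≅ T.obj₃ := preIso F P₂ hess ⟨T.obj₃, h₃⟩
  have hK₁ : P₁ K₁ := pre_mem F P₁ P₂ h12 hess _
  have hK₂ : P₁ K₂ := pre_mem F P₁ P₂ h12 hess _
  have hK₃ : P₁ K₃ := pre_mem F P₁ P₂ h12 hess _
  let u : K₁ ⟶ K₂ := F.preimage (e₁.hom ≫ T.mor₁ ≫ e₂.inv)
  obtain ⟨C, v, w, hC⟩ := distinguished_cocone_triangle u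
  have hFC := F.map_distinguished _ hC
  let φ : F.mapTriangle.obj (Triangle.mk u v w) ≅ T :=
    isoTriangleOfIso₁₂ _ _ hFC hT e₁ e₂ (by
      change F.map u ≫ e₂.hom = e₁.hom ≫ T.mor₁
      dsimp only [u]
      rw [F.map_preimage, Category.assoc, Category.assoc, Iso.inv_hom_id, Category.comp_id])
  let eC : F.obj C ≅ T.obj₃ := Triangle.π₃.mapIso φ
  have hPC : P₁ C := (h12 _).2 (P₂.prop_of_iso eC.symm h₃)
  have hCK : clTr P₁ C = clTr P₁ K₃ :=
    (clTr_iso P₁ (F.preimageIso (eC ≪≫ e₃.symm)) hPC).symm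
  have := clTr_tri P₁ _ hC hK₁ hK₂ hPC
  change clTr P₁ K₂ = clTr P₁ K₁ + clTr P₁ C at this
  rw [this, hCK]
  abel

/-- the backward map -/
noncomputable def bwd : K0tr P₂ →+ K0tr P₁ :=
  QuotientAddGroup.lift _ (bwd₀ F P₁ P₂ hess) (relTr_le_ker_bwd₀ F P₁ P₂ h12 hess)

include h12 hess in
theorem exists_addEquiv :
    ∃ ψ : K0tr P₁ ≃+ K0tr P₂, ∀ K, P₁ K → ψ (clTr P₁ K) = clTr P₂ (F.obj K) := by
  haveI := isClosedUnderIsomorphisms_left F P₁ P₂ h12
  haveI := containsZero_left F P₁ P₂ h12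
  have hbf : ∀ x, bwd F P₁ P₂ h12 hess (fwd F P₁ P₂ h12 x) = x := by
    intro x
    obtain ⟨x, rfl⟩ := QuotientAddGroup.mk_surjective x
    refine FreeAbelianGroup.induction_on x (by simp) ?_ ?_ ?_
    · rintro ⟨K, hK⟩
      have h1 : fwd F P₁ P₂ h12 (QuotientAddGroup.mk (FreeAbelianGroup.of ⟨K, hK⟩)) =
          clTr P₂ (F.obj K) := by
        rw [← clTr_of P₁ hK]
        exact fwd_clTr F P₁ P₂ h12 K hK
      rw [h1, clTr_of P₂ ((h12 K).1 hK)]
      change bwd₀ F P₁ P₂ hess (FreeAbelianGroup.of ⟨F.obj K, (h12 K).1 hK⟩) = _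
      rw [bwd₀_of, ← clTr_of P₁ hK]
      exact clTr_iso P₁ (F.preimageIso (preIso F P₂ hess ⟨F.obj K, (h12 K).1 hK⟩).symm) hK
    · intro X hX
      rw [QuotientAddGroup.mk_neg, map_neg, map_neg, hX]
    · intro x y hx hy
      rw [QuotientAddGroup.mk_add, map_add, map_add, hx, hy]
  have hfb : ∀ y, fwd F P₁ P₂ h12 (bwd F P₁ P₂ h12 hess y) = y := by
    intro y
    obtain ⟨y, rfl⟩ := QuotientAddGroup.mk_surjective y
    refine FreeAbelianGroup.induction_on y (by simp) ?_ ?_ ?_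
    · rintro ⟨L, hL⟩
      change fwd F P₁ P₂ h12 (bwd₀ F P₁ P₂ hess (FreeAbelianGroup.of ⟨L, hL⟩)) = _
      rw [bwd₀_of, fwd_clTr F P₁ P₂ h12 _ (pre_mem F P₁ P₂ h12 hess ⟨L, hL⟩), ← clTr_of P₂ hL]
      exact (clTr_iso P₂ (preIso F P₂ hess ⟨L, hL⟩).symm hL)
    · intro X hX
      rw [QuotientAddGroup.mk_neg, map_neg, map_neg, hX]
    · intro x y hx hy
      rw [QuotientAddGroup.mk_add, map_add, map_add, hx, hy]
  refine ⟨{ toFun := fwd F P₁ P₂ h12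
            invFun := bwd F P₁ P₂ h12 hess
            left_inv := hbf
            right_inv := hfb
            map_add' := map_add _ }, fun K hK => fwd_clTr F P₁ P₂ h12 K hK⟩

end Transport

end Groth.Agent.Lib.Helper5.K0Tr
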