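import Mathlib
import Groth.Prelude.Def_KZero
import Groth.Prelude.Def_DRing2
import Groth.Prelude.Def_Koszul
import Groth.Agent.Lib.Helper3.K0Db
import Groth.Agent.Lib.Helper3.ExtKos
import Groth.Agent.Lib.Helper5.K0Tr.Transport
import Groth.Agent.Lib.Helper5.DRing.Classes
import Groth.Agent.Lib.Helper5.DRing.PerfRes
import Groth.Agent.Lib.Helper5.ProperPush.BddInd
import Groth.Agent.S2068

/-!
# `K₀` of perfect complexes supported at the closed point of a regular local ring is generated by
the Koszul complex (helper5)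
-/

set_option autoImplicit false
universe u
open CategoryTheory CategoryTheory.Limits KZero Pretriangulated ZeroObject

attribute [local instance] HasDerivedCategory.standard

namespace Groth.Agent.Lib.Helper5.K0Kos

open Groth.Agent.Lib.Helper5.K0Tr

variable (R : Type u) [CommRing R]

section General

/-- a zero object of `D(R)` is perfect -/
theorem isPerfect_of_isZero (K : Dual.D R) (hK : IsZero K) : DRing.IsPerfect R K := by
  refine ⟨(0 : CochainComplex (ModuleCat.{u} R) ℤ), 0, 0, ?_, ?_, ⟨?_⟩⟩
  · intro i _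
    exact (HomologicalComplex.eval _ _ i).map_isZero (isZero_zero _)
  · intro i
    have hz : IsZero ((0 : CochainComplex (ModuleCat.{u} R) ℤ).X i) :=
      (HomologicalComplex.eval _ _ i).map_isZero (isZero_zero _)
    haveI := ModuleCat.subsingleton_of_isZero hz
    exact ⟨inferInstance, inferInstance⟩
  · exact (DerivedCategory.Q.map_isZero (isZero_zero _)).iso hK

/-- cohomology of a perfect object through a representing complex -/
noncomputable def hdIso (K : Dual.D R) (E : DRing.Cx R) (e : DRing.toD E ≅ K) (i : ℤ) :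
    (DerivedCategory.homologyFunctor (ModuleCat.{u} R) i).obj K ≅ E.homology i :=
  (DerivedCategory.homologyFunctor _ i).mapIso e.symm ≪≫
    (DerivedCategory.homologyFunctorFactors (ModuleCat.{u} R) i).app E

theorem finite_HD_of_isPerfect [IsNoetherianRing R] (K : Dual.D R) (hK : DRing.IsPerfect R K)
    (i : ℤ) : Module.Finite R (Dual.HD R K i) := by
  obtain ⟨E, a, b, hv, hfp, ⟨e⟩⟩ := hK
  have h1 : Module.Finite R (E.X i) := (hfp i).1
  have : IsNoetherian R (E.X i) := isNoetherian_of_isNoetherianRing_of_finite R _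
  have h2 : Module.Finite R (LinearMap.ker (E.d i (i+1)).hom) := inferInstance
  have h3 := Groth.Agent.S2068.homology_fin E i h2
  exact Module.Finite.equiv (hdIso R K E e i).symm.toLinearEquiv

theorem bounded_of_isPerfect (K : Dual.D R) (hK : DRing.IsPerfect R K) :
    ∃ a b : ℤ, K.IsGE a ∧ K.IsLE b := by
  obtain ⟨E, a, b, hv, hfp, ⟨e⟩⟩ := hK
  refine ⟨a, b, ?_, ?_⟩
  · rw [DerivedCategory.isGE_iff]
    intro i hi
    exact IsZero.of_iso (ShortComplex.isZero_homology_of_isZero_X₂ _ (hv i (Or.inl hi)))
      (hdIso R K E e i)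
  · rw [DerivedCategory.isLE_iff]
    intro i hi
    exact IsZero.of_iso (ShortComplex.isZero_homology_of_isZero_X₂ _ (hv i (Or.inr hi)))
      (hdIso R K E e i)

end General

section Local

variable [IsLocalRing R]

/-- finite modules supported at the closed point -/
def PFL : ObjectProperty (ModuleCat.{u} R) :=
  fun M => Module.Finite R M ∧ Module.support R M ⊆ {IsLocalRing.closedPoint R}

instance : (PFL R).IsClosedUnderIsomorphisms where
  of_iso {M N} e h := by
    have := h.1
    exact ⟨Module.Finite.equiv e.toLinearEquiv, by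
      rw [← e.toLinearEquiv.support_eq]
      exact h.2⟩

instance : (PFL R).ContainsZero where
  exists_zero := by
    refine ⟨ModuleCat.of R PUnit.{u+1}, ModuleCat.isZero_of_subsingleton _, ?_⟩
    change Module.Finite R PUnit.{u+1} ∧ Module.support R PUnit.{u+1} ⊆ _
    refine ⟨inferInstance, ?_⟩
    rw [Module.support_eq_empty]
    exact Set.empty_subset _

instance [IsNoetherianRing R] : (PFL R).IsClosedUnderKernels := by
  refine ⟨?_⟩
  rintro _ ⟨f, k, hk, hf⟩
  rename_i M N
  have e := IsLimit.conePointUniqueUpToIso (kernelIsKernel f) hk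
  refine (PFL R).prop_of_iso ((ModuleCat.kernelIsoKer f).symm ≪≫ e) ?_
  have h1 : Module.Finite R M := hf.1.1
  have : IsNoetherian R M := isNoetherian_of_isNoetherianRing_of_finite R M
  change Module.Finite R (LinearMap.ker f.hom) ∧ Module.support R (LinearMap.ker f.hom) ⊆ _
  refine ⟨inferInstance, ?_⟩
  exact (Module.support_subset_of_injective (LinearMap.ker f.hom).subtype
    (Submodule.injective_subtype _)).trans hf.1.2

/-- perfect objects with cohomology supported at the closed point -/
abbrev DP : ObjectProperty (Dual.D R) := fun K : Dual.D R =>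
  DRing.IsPerfect R K ∧
    ∀ i : ℤ, Module.support R (Dual.HD R K i) ⊆ {IsLocalRing.closedPoint R}

instance : (DP R).IsClosedUnderIsomorphisms where
  of_iso {K L} e h := ⟨Groth.Agent.Helper5.PerfRes.perfect_of_iso e h.1, fun i => by
    rw [← ((DerivedCategory.homologyFunctor (ModuleCat.{u} R) i).mapIso e).toLinearEquiv.support_eq]
    exact h.2 i⟩

instance : (DP R).ContainsZero where
  exists_zero := ⟨0, isZero_zero _, isPerfect_of_isZero R _ (isZero_zero _), fun i => by
    have hz : IsZero ((DerivedCategory.homologyFunctor (ModuleCat.{u} R) i).obj (0 : Dual.D R)) :=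
      (DerivedCategory.homologyFunctor (ModuleCat.{u} R) i).map_isZero (isZero_zero _)
    haveI := ModuleCat.subsingleton_of_isZero hz
    rw [Module.support_eq_empty]
    exact Set.empty_subset _⟩

/-- a module placed in degree zero -/
noncomputable abbrev sg (M : ModuleCat.{u} R) : Dual.D R :=
  (DerivedCategory.singleFunctor (ModuleCat.{u} R) 0).obj M

theorem support_HD_sg (M : ModuleCat.{u} R)
    (hM : Module.support R M ⊆ {IsLocalRing.closedPoint R}) (i : ℤ) :
    Module.support R (Dual.HD R (sg R M) i) ⊆ {IsLocalRing.closedPoint R} := by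
  by_cases hi : i = 0
  · subst hi
    have := ((DerivedCategory.singleFunctorCompHomologyFunctorIso (ModuleCat.{u} R) 0).app
      M).toLinearEquiv.support_eq
    change Module.support R (Dual.HD R (sg R M) 0) = Module.support R M at this
    rw [this]
    exact hM
  · have hz : IsZero ((DerivedCategory.homologyFunctor (ModuleCat.{u} R) i).obj (sg R M)) := by
      have h1 : (sg R M).IsGE 0 := inferInstance
      have h2 : (sg R M).IsLE 0 := inferInstance
      rcases lt_or_gt_of_ne hi with h | h
      · exact DerivedCategory.isZero_of_isGE _ 0 i h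
      · exact DerivedCategory.isZero_of_isLE _ 0 i h
    haveI := ModuleCat.subsingleton_of_isZero hz
    rw [Module.support_eq_empty]
    exact Set.empty_subset _

theorem dp_sg (M : ModuleCat.{u} R) (hM : Module.support R M ⊆ {IsLocalRing.closedPoint R})
    (hp : DRing.IsPerfect R (sg R M)) : DP R (sg R M) :=
  ⟨hp, support_HD_sg R M hM⟩

variable (k : ModuleCat.{u} R)

/-- the property proved by dévissage -/
def Good (M : ModuleCat.{u} R) : Prop :=
  DRing.IsPerfect R (sg R M) ∧
    clTr (DP R) (sg R M) ∈ AddSubgroup.zmultiples (clTr (DP R) (sg R k))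

theorem good_of_iso {M N : ModuleCat.{u} R} (e : M ≅ N)
    (hM : Module.support R M ⊆ {IsLocalRing.closedPoint R}) (h : Good R k M) : Good R k N := by
  have e' : sg R M ≅ sg R N := (DerivedCategory.singleFunctor (ModuleCat.{u} R) 0).mapIso e
  refine ⟨Groth.Agent.Helper5.PerfRes.perfect_of_iso e' h.1, ?_⟩
  rw [clTr_iso (DP R) e' (dp_sg R M hM h.1)]
  exact h.2

theorem good_of_isZero (M : ModuleCat.{u} R) (hM : IsZero M) : Good R k M := by
  have hz : IsZero (sg R M) := (DerivedCategory.singleFunctor (ModuleCat.{u} R) 0).map_isZero hM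
  refine ⟨isPerfect_of_isZero R _ hz, ?_⟩
  rw [clTr_iso (DP R) (hz.iso (isZero_zero _)).symm (DP R).prop_zero, clTr_zeroObj]
  exact zero_mem _

theorem good_of_shortExact (S : ShortComplex (ModuleCat.{u} R)) (hS : S.ShortExact)
    (h₁ : Module.support R S.X₁ ⊆ {IsLocalRing.closedPoint R})
    (h₂ : Module.support R S.X₂ ⊆ {IsLocalRing.closedPoint R})
    (h₃ : Module.support R S.X₃ ⊆ {IsLocalRing.closedPoint R})
    (g₁ : Good R k S.X₁) (g₃ : Good R k S.X₃) : Good R k S.X₂ := by
  have hT := hS.singleTriangle_distinguished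
  have hp : DRing.IsPerfect R (sg R S.X₂) :=
    (Groth.Agent.Helper5.DRingCone.perfect_two_of_three _ hT).2.1 g₁.1 g₃.1
  refine ⟨hp, ?_⟩
  have := clTr_tri (DP R) _ hT (dp_sg R _ h₁ g₁.1) (dp_sg R _ h₂ hp) (dp_sg R _ h₃ g₃.1)
  change clTr (DP R) (sg R S.X₂) = clTr (DP R) (sg R S.X₁) + clTr (DP R) (sg R S.X₃) at this
  rw [this]
  exact add_mem g₁.2 g₃.2

theorem good_of_pfl [IsNoetherianRing R] (I : Ideal R) (hI : I = IsLocalRing.maximalIdeal R)
    (hkp : DRing.IsPerfect R (sg R (ModuleCat.of R (R ⧸ I))))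
    (M : Type u) [AddCommGroup M] [Module R M] [Module.Finite R M] :
    Module.support R M ⊆ {IsLocalRing.closedPoint R} →
      Good R (ModuleCat.of R (R ⧸ I)) (ModuleCat.of R M) := by
  induction ‹Module.Finite R M› using
    IsNoetherianRing.induction_on_isQuotientEquivQuotientPrime R with
  | subsingleton N =>
    intro _
    exact good_of_isZero R _ _ (ModuleCat.isZero_of_subsingleton _)
  | quotient N p e =>
    intro hs
    have hmem : p ∈ Module.support R N := by
      rw [e.support_eq, Module.support_of_algebra, PrimeSpectrum.mem_zeroLocus,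
        Ideal.Quotient.algebraMap_eq, Ideal.mk_ker]
    have hp : p = IsLocalRing.closedPoint R := hs hmem
    have hpI : p.1 = I := by
      rw [hp, hI]
      rfl
    have hk : Good R (ModuleCat.of R (R ⧸ I)) (ModuleCat.of R (R ⧸ I)) :=
      ⟨hkp, AddSubgroup.mem_zmultiples _⟩
    let e' : N ≃ₗ[R] (R ⧸ I) := e ≪≫ₗ Submodule.quotEquivOfEq _ _ hpI
    refine good_of_iso R _ e'.symm.toModuleIso ?_ hk
    change Module.support R (R ⧸ I) ⊆ _
    rw [← e'.support_eq]
    exact hs
  | exact N₁ N₂ N₃ f g hf hg hfg h₁ h₃ =>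
    intro hs
    have hs₁ := (Module.support_subset_of_injective f hf).trans hs
    have hs₃ := (Module.support_subset_of_surjective g hg).trans hs
    let S : ShortComplex (ModuleCat.{u} R) :=
      ShortComplex.mk (ModuleCat.ofHom f) (ModuleCat.ofHom g) (by
        ext x
        exact hfg.apply_apply_eq_zero x)
    have hS : S.ShortExact := ModuleCat.shortComplex_shortExact S hfg hf hg
    exact good_of_shortExact R _ S hS hs₁ hs hs₃ (h₁ hs₁) (h₃ hs₃)

theorem dp_iff [IsNoetherianRing R] (I : Ideal R) (hI : I = IsLocalRing.maximalIdeal R)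
    (hkp : DRing.IsPerfect R (sg R (ModuleCat.of R (R ⧸ I)))) (K : Dual.D R) :
    DP R K ↔ ((∀ i : ℤ, PFL R ((DerivedCategory.homologyFunctor (ModuleCat.{u} R) i).obj K)) ∧
      ∃ a b : ℤ, (DerivedCategory.TStructure.t (C := ModuleCat.{u} R)).IsGE K a ∧
        (DerivedCategory.TStructure.t (C := ModuleCat.{u} R)).IsLE K b) := by
  constructor
  · rintro ⟨hK, hs⟩
    obtain ⟨a, b, ha, hb⟩ := bounded_of_isPerfect R K hK
    exact ⟨fun i => ⟨finite_HD_of_isPerfect R K hK i, hs i⟩, a, b, ha, hb⟩
  · rintro ⟨hP, a, b, ha, hb⟩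
    refine ⟨?_, fun i => (hP i).2⟩
    haveI : K.IsGE a := ha
    haveI : K.IsLE b := hb
    exact Groth.Agent.Lib.Helper5.BddInd.bounded_induction' (C := ModuleCat.{u} R)
      (fun K : Dual.D R => DRing.IsPerfect R K) (fun M => PFL R M)
      (fun _ _ e h => (PFL R).prop_of_iso e h) (fun M hM => (PFL R).prop_of_isZero hM)
      (fun K hK => isPerfect_of_isZero R K hK)
      (fun _ _ e h => Groth.Agent.Helper5.PerfRes.perfect_of_iso e h)
      (fun n M hM => Groth.Agent.Helper5.PerfRes.perfect_of_iso
        (((DerivedCategory.singleFunctors (ModuleCat.{u} R)).shiftIso (-n) n 0 (by omega)).app M)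
        (Groth.Agent.Helper5.PerfRes.perfect_shift _ (-n) (by
          haveI := hM.1
          exact (good_of_pfl R I hI hkp M hM.2).1)))
      (fun T hT h1 h3 => (Groth.Agent.Helper5.DRingCone.perfect_two_of_three T hT).2.1 h1 h3)
      K a b hP

theorem isPerfect_koszul (fs : List R) : DRing.IsPerfect R (DRing.toD (Koszul.koszul R fs)) := by
  refine ⟨Koszul.koszul R fs, -(fs.length : ℤ), 0, ?_, ?_, ⟨Iso.refl _⟩⟩
  · intro i hi
    obtain ⟨e⟩ := Groth.Agent.Helper3.ExtKos.koszul_X fs i
    have h0 : Groth.Agent.Helper3.ExtKos.rk fs.length i = 0 := by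
      unfold Groth.Agent.Helper3.ExtKos.rk
      split_ifs with h
      · apply Nat.choose_eq_zero_of_lt
        omega
      · rfl
    rw [h0] at e
    haveI : Subsingleton ((Koszul.koszul R fs).X i) := e.toEquiv.subsingleton
    exact ModuleCat.isZero_of_subsingleton _
  · intro i
    obtain ⟨e⟩ := Groth.Agent.Helper3.ExtKos.koszul_X fs i
    exact ⟨Module.Finite.equiv e.symm, Module.Projective.of_equiv e.symm⟩

theorem main [IsNoetherianRing R] (fs : List R) (hreg : RingTheory.Sequence.IsRegular R fs)
    (hgen : Ideal.ofList fs = IsLocalRing.maximalIdeal R) :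
    AddSubgroup.closure {clTr (DP R) (DRing.toD (Koszul.koszul R fs))} = ⊤ := by
  obtain ⟨eK⟩ := Groth.Agent.Helper3.ExtKos.koszulQ_iso fs hreg.toIsWeaklyRegular
  have hKos := isPerfect_koszul R fs
  have hkp : DRing.IsPerfect R (sg R (ModuleCat.of R (R ⧸ Ideal.ofList fs))) :=
    Groth.Agent.Helper5.PerfRes.perfect_of_iso eK hKos
  have hks : Module.support R (R ⧸ Ideal.ofList fs) ⊆ {IsLocalRing.closedPoint R} := by
    rw [Module.support_of_algebra, Ideal.Quotient.algebraMap_eq, Ideal.mk_ker, hgen]
    intro p hp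
    rw [PrimeSpectrum.mem_zeroLocus] at hp
    rw [Set.mem_singleton_iff]
    apply PrimeSpectrum.ext
    exact ((IsLocalRing.maximalIdeal.isMaximal R).eq_of_le p.2.ne_top hp).symm
  have hdk : DP R (sg R (ModuleCat.of R (R ⧸ Ideal.ofList fs))) := dp_sg R _ hks hkp
  have hcl : clTr (DP R) (DRing.toD (Koszul.koszul R fs)) =
      clTr (DP R) (sg R (ModuleCat.of R (R ⧸ Ideal.ofList fs))) :=
    clTr_iso (DP R) eK.symm hdk
  obtain ⟨φ, hφ⟩ := Groth.Agent.Helper3.K0Db.k0sub_main (PFL R) (DP R)
    (dp_iff R _ hgen hkp)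
  rw [eq_top_iff]
  rintro x -
  obtain ⟨y, rfl⟩ := φ.surjective x
  obtain ⟨y, rfl⟩ := QuotientAddGroup.mk_surjective y
  rw [← AddSubgroup.zmultiples_eq_closure, hcl]
  refine FreeAbelianGroup.induction_on y ?_ ?_ ?_ ?_
  · rw [QuotientAddGroup.mk_zero, map_zero]
    exact zero_mem _
  · rintro ⟨M, hM⟩
    have h1 := hφ M hM
    rw [Groth.Agent.Helper3.K0Db.clSub_of _ hM] at h1
    rw [h1]
    haveI := hM.1
    exact (good_of_pfl R _ hgen hkp M hM.2).2
  · intro X hX
    rw [QuotientAddGroup.mk_neg, map_neg]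
    exact neg_mem hX
  · intro x y hx hy
    rw [QuotientAddGroup.mk_add, map_add]
    exact add_mem hx hy

end Local

end Groth.Agent.Lib.Helper5.K0Kos
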